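import Groth.Agent.MinorSpanLib.Basic
import Mathlib

set_option autoImplicit false
universe u

namespace Groth.Agent.JacMinorLib

open Groth.Agent.MinorSpanLib

variable {R : Type u} [CommRing R] {n : ℕ}

def minors {m : ℕ} (D : Fin n → R → R) (f : Fin m → R) (r : ℕ) : Set R :=
  {d | ∃ (ρ : Fin r → Fin m) (γ : Fin r → Fin n), Function.Injective ρ ∧ Function.Injective γ ∧
          d = ((Matrix.of fun (j : Fin m) (i : Fin n) => D i (f j)).submatrix ρ γ).det}

theorem minors_le {m l : ℕ} (D : Fin n → R → R) (hadd : ∀ i x y, D i (x + y) = D i x + D i y)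
    (hmul : ∀ i x y, D i (x * y) = x * D i y + y * D i x)
    (f : Fin m → R) (g : Fin l → R) (hg : ∀ s, g s ∈ Ideal.span (Set.range f)) (r : ℕ) :
    Ideal.span (minors D g r) ≤ Ideal.span (minors D f r) ⊔ Ideal.span (Set.range f) := by
  classical
  rw [Ideal.span_le]
  rintro _ ⟨ρ, γ, hρ, hγ, rfl⟩
  choose a ha using fun s => (Ideal.mem_span_range_iff_exists_fun).mp (hg s)
  set I := Ideal.span (Set.range f) with hI
  have hsum : ∀ i (t : Finset (Fin m)) (h : Fin m → R), D i (∑ j ∈ t, h j) = ∑ j ∈ t, D i (h j) := fun i t h =>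
    map_sum (AddMonoidHom.mk' (D i) (hadd i)) h t
  let A : Matrix (Fin r) (Fin m) R := Matrix.of fun p j => a (ρ p) j
  let J : Matrix (Fin m) (Fin r) R := Matrix.of fun j q => D (γ q) (f j)
  have hent : ∀ p q, Ideal.Quotient.mk I (D (γ q) (g (ρ p))) = Ideal.Quotient.mk I ((A * J) p q) := by
    intro p q
    rw [← ha, hsum, Matrix.mul_apply, map_sum, map_sum]
    refine Finset.sum_congr rfl fun j _ => ?_
    rw [hmul, map_add, map_mul _ (f j), Ideal.Quotient.eq_zero_iff_mem.mpr (Ideal.subset_span ⟨j, rfl⟩ : f j ∈ I),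
      zero_mul, add_zero]
    rfl
  have hdet : ((Matrix.of fun (j : Fin l) (i : Fin n) => D i (g j)).submatrix ρ γ).det - (A * J).det ∈ I := by
    rw [← Ideal.Quotient.eq, RingHom.map_det, RingHom.map_det]
    congr 1
    ext p q
    exact hent p q
  have hAJ : (A * J).det ∈ Ideal.span (minors D f r) := by
    rw [det_mul_expand]
    refine Ideal.sum_mem _ fun φ _ => Ideal.mul_mem_left _ _ ?_
    by_cases hφ : Function.Injective φ
    · exact Ideal.subset_span ⟨φ, γ, hφ, hγ, rfl⟩
    · simp only [Function.Injective, not_forall] at hφ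
      obtain ⟨x, y, hxy, hne⟩ := hφ
      rw [Matrix.det_zero_of_row_eq hne (funext fun z => by simp [hxy])]
      exact Ideal.zero_mem _
  have := Submodule.add_mem_sup hAJ hdet
  rwa [add_sub_cancel] at this

theorem minors_eq {m l : ℕ} (D : Fin n → R → R) (hadd : ∀ i x y, D i (x + y) = D i x + D i y)
    (hmul : ∀ i x y, D i (x * y) = x * D i y + y * D i x)
    (f : Fin m → R) (g : Fin l → R) (hfg : Ideal.span (Set.range f) = Ideal.span (Set.range g)) (r : ℕ) :
    Ideal.span (minors D f r) ⊔ Ideal.span (Set.range f) = Ideal.span (minors D g r) ⊔ Ideal.span (Set.range g) := by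
  apply le_antisymm
  · refine sup_le ?_ (hfg.le.trans le_sup_right)
    exact minors_le D hadd hmul g f (fun s => hfg ▸ Ideal.subset_span ⟨s, rfl⟩) r
  · refine sup_le ?_ (hfg.ge.trans le_sup_right)
    exact minors_le D hadd hmul f g (fun s => hfg.symm ▸ Ideal.subset_span ⟨s, rfl⟩) r

end Groth.Agent.JacMinorLib
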